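import Groth.Prelude.Def_GSzMilK
import Mathlib.GroupTheory.Perm.Sign
import Mathlib.GroupTheory.Perm.Fin
import Mathlib.Data.Fin.Tuple.Sort
import Mathlib.Tactic

/-! Symbol calculus in Milnor K-theory. -/

set_option autoImplicit false

universe u v

namespace Groth.Agent.MilKLead

open MilK

variable {F : Type u} [Field F] {n : ℕ}

lemma update_ofMul (x : Fin n → Fˣ) (i : Fin n) (a : Fˣ) :
    (fun j => Additive.ofMul (Function.update x i a j)) =
      Function.update (fun j => Additive.ofMul (x j)) i (Additive.ofMul a) := by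
  funext j
  rcases eq_or_ne j i with rfl | h <;> simp [*]

lemma symbol_mul (x : Fin n → Fˣ) (i : Fin n) (a b : Fˣ) :
    symbol (Function.update x i (a * b)) =
      (symbol (Function.update x i a) + symbol (Function.update x i b) : K F n) := by
  classical
  simp only [symbol]
  rw [update_ofMul, update_ofMul, update_ofMul, ofMul_mul,
    (PiTensorProduct.tprod ℤ).map_update_add, map_add]

/-- The symbol as an additive map in one variable. -/
def slot (x : Fin n → Fˣ) (i : Fin n) : Additive Fˣ →+ K F n :=
  AddMonoidHom.mk' (fun a => symbol (Function.update x i a.toMul))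
    fun a b => symbol_mul x i a.toMul b.toMul

lemma slot_apply (x : Fin n → Fˣ) (i : Fin n) (a : Fˣ) :
    slot x i (Additive.ofMul a) = symbol (Function.update x i a) := rfl

lemma symbol_one (x : Fin n → Fˣ) (i : Fin n) :
    symbol (Function.update x i 1) = (0 : K F n) := (slot x i).map_zero

lemma symbol_inv (x : Fin n → Fˣ) (i : Fin n) (a : Fˣ) :
    symbol (Function.update x i a⁻¹) = (-symbol (Function.update x i a) : K F n) :=
  (slot x i).map_neg (Additive.ofMul a)

lemma symbol_zpow (x : Fin n → Fˣ) (i : Fin n) (a : Fˣ) (z : ℤ) :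
    symbol (Function.update x i (a ^ z)) = (z • symbol (Function.update x i a) : K F n) :=
  map_zsmul (slot x i) z (Additive.ofMul a)

lemma symbol_eq_zero_of_one (x : Fin n → Fˣ) (i : Fin n) (h : x i = 1) :
    symbol x = (0 : K F n) := by
  rw [← Function.update_eq_self i x, h, symbol_one]

/-- Induction on symbols. -/
lemma closure_symbols : AddSubgroup.closure (Set.range (symbol : (Fin n → Fˣ) → K F n)) = ⊤ := by
  rw [eq_top_iff]
  rintro z -
  obtain ⟨t, rfl⟩ := mk_surjective F n z
  induction t using PiTensorProduct.induction_on with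
  | smul_tprod r x =>
    rw [map_zsmul, mk_tprod]
    exact zsmul_mem (AddSubgroup.subset_closure (Set.mem_range_self _)) r
  | add a b ha hb => rw [map_add]; exact add_mem ha hb

lemma induction_symbol {P : K F n → Prop} (h0 : P 0) (hadd : ∀ a b, P a → P b → P (a + b))
    (hneg : ∀ a, P a → P (-a)) (h : ∀ x, P (symbol x)) (z : K F n) : P z := by
  have hz : z ∈ AddSubgroup.closure (Set.range (symbol : (Fin n → Fˣ) → K F n)) := by
    rw [closure_symbols]; trivial
  induction hz using AddSubgroup.closure_induction with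
  | mem x hx => obtain ⟨y, rfl⟩ := hx; exact h y
  | zero => exact h0
  | add a b _ _ ha hb => exact hadd a b ha hb
  | neg a _ ha => exact hneg a ha

lemma hom_ext {M : Type*} [AddCommGroup M] {φ ψ : K F n →+ M}
    (h : ∀ x, φ (symbol x) = ψ (symbol x)) : φ = ψ := by
  refine AddMonoidHom.ext fun z => ?_
  induction z using induction_symbol with
  | h0 => simp
  | hadd a b ha hb => rw [map_add, map_add, ha, hb]
  | hneg a ha => rw [map_neg, map_neg, ha]
  | h x => exact h x

/-- The Steinberg relation at any two positions. -/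
lemma symbol_steinberg (x : Fin n → Fˣ) {i j : Fin n} (hij : i ≠ j)
    (h : (x i : F) + x j = 1) : symbol x = (0 : K F n) := by
  apply symbol_eq_zero_of_isSteinberg
  rcases lt_or_gt_of_ne hij with hl | hl
  · exact ⟨i, j, hl, h⟩
  · exact ⟨j, i, hl, by rw [add_comm]; exact h⟩

/-- Two slots of a symbol. -/
def two (x : Fin n → Fˣ) (i j : Fin n) (a b : Fˣ) : K F n :=
  symbol (Function.update (Function.update x i a) j b)

lemma two_comm' (x : Fin n → Fˣ) {i j : Fin n} (hij : i ≠ j) (a b : Fˣ) :
    two x i j a b = symbol (Function.update (Function.update x j b) i a) := by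
  rw [two, Function.update_comm hij]

lemma two_self (x : Fin n → Fˣ) (i j : Fin n) : two x i j (x i) (x j) = symbol x := by
  rw [two, Function.update_eq_self, Function.update_eq_self]

lemma two_mul_right (x : Fin n → Fˣ) (i j : Fin n) (a b b' : Fˣ) :
    two x i j a (b * b') = two x i j a b + two x i j a b' := symbol_mul _ _ _ _

lemma two_mul_left (x : Fin n → Fˣ) {i j : Fin n} (hij : i ≠ j) (a a' b : Fˣ) :
    two x i j (a * a') b = two x i j a b + two x i j a' b := by
  rw [two_comm' x hij, two_comm' x hij, two_comm' x hij, symbol_mul]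

lemma two_inv_right (x : Fin n → Fˣ) (i j : Fin n) (a b : Fˣ) :
    two x i j a b⁻¹ = -two x i j a b := symbol_inv _ _ _

lemma two_inv_left (x : Fin n → Fˣ) {i j : Fin n} (hij : i ≠ j) (a b : Fˣ) :
    two x i j a⁻¹ b = -two x i j a b := by
  rw [two_comm' x hij, two_comm' x hij, symbol_inv]

lemma two_steinberg (x : Fin n → Fˣ) {i j : Fin n} (hij : i ≠ j) {a b : Fˣ}
    (h : (a : F) + b = 1) : two x i j a b = 0 :=
  symbol_steinberg _ hij (by simpa [hij] using h)

lemma two_neg_self (x : Fin n → Fˣ) {i j : Fin n} (hij : i ≠ j) (a : Fˣ) :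
    two x i j a (-a) = 0 := by
  by_cases h1 : a = 1
  · subst h1
    rw [two_comm' x hij, symbol_one]
  have hne : (1 : F) - a ≠ 0 := fun h => h1 (Units.ext (sub_eq_zero.1 h).symm)
  have hne' : (1 : F) - (a⁻¹ : Fˣ) ≠ 0 := fun h => h1 (by
    have h2 : (a⁻¹ : Fˣ) = 1 := Units.ext (sub_eq_zero.1 h).symm
    rwa [inv_eq_one] at h2)
  have hneg : -a = Units.mk0 _ hne * (Units.mk0 _ hne')⁻¹ := by
    rw [eq_mul_inv_iff_mul_eq]
    apply Units.ext
    simp only [Units.val_mul, Units.val_neg, Units.val_mk0, Units.val_inv_eq_inv_val]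
    field_simp
    ring
  rw [hneg, two_mul_right, two_inv_right, two_steinberg x hij (by simp), zero_add]
  have hz : two x i j a⁻¹ (Units.mk0 _ hne') = 0 := two_steinberg x hij (by simp)
  rw [two_inv_left x hij, neg_eq_zero] at hz
  rw [hz, neg_zero]

lemma two_self_eq (x : Fin n → Fˣ) {i j : Fin n} (hij : i ≠ j) (a : Fˣ) :
    two x i j a a = two x i j a (-1) := by
  have h := two_neg_self x hij a
  rw [show -a = (-1 : Fˣ) * a by rw [neg_one_mul], two_mul_right] at h
  have h2 : two x i j a (-1) + two x i j a (-1) = 0 := by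
    rw [← two_mul_right, neg_mul_neg, one_mul, two, symbol_one]
  rw [eq_neg_of_add_eq_zero_right h, neg_eq_iff_add_eq_zero, h2]

lemma two_anticomm (x : Fin n → Fˣ) {i j : Fin n} (hij : i ≠ j) (a b : Fˣ) :
    two x i j b a = -two x i j a b := by
  have h := two_neg_self x hij (a * b)
  rw [show -(a * b) = (-a) * b by rw [neg_mul], two_mul_left x hij, two_mul_right, two_mul_right,
    two_neg_self x hij a, zero_add] at h
  have h2 := two_neg_self x hij b
  rw [show -a = (-1 : Fˣ) * a by rw [neg_one_mul], two_mul_right] at h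
  rw [show -b = (-1 : Fˣ) * b by rw [neg_one_mul], two_mul_right] at h2
  apply eq_neg_of_add_eq_zero_left
  rw [← h]
  have h3 : two x i j b (-1) + two x i j b b = 0 := h2
  calc two x i j b a + two x i j a b
      = two x i j a b + two x i j b a + 0 := by rw [add_zero, add_comm]
    _ = _ := by rw [← h3]; abel

/-- Permuting the entries changes a symbol by the sign. -/
lemma symbol_perm (x : Fin n → Fˣ) (σ : Equiv.Perm (Fin n)) :
    symbol (x ∘ σ) = ((Equiv.Perm.sign σ : ℤ) • symbol x : K F n) := by
  induction σ using Equiv.Perm.swap_induction_on generalizing x with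
  | one => simp
  | swap_mul σ i j hij ih =>
    rw [Equiv.Perm.coe_mul, ← Function.comp_assoc, ih (x ∘ Equiv.swap i j), map_mul,
      Equiv.Perm.sign_swap hij]
    have : symbol (x ∘ Equiv.swap i j) = (-symbol x : K F n) := by
      rw [← two_self x i j, ← two_anticomm x hij, two, Equiv.comp_swap_eq_update,
        Function.update_comm hij]
    rw [this]
    simp

lemma symbol_eq_zero_of_isSteinberg' (x : Fin n → Fˣ) (σ : Equiv.Perm (Fin n))
    (h : symbol (x ∘ σ) = (0 : K F n)) : symbol x = (0 : K F n) := by
  rw [symbol_perm] at h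
  rcases Int.units_eq_one_or (Equiv.Perm.sign σ) with hs | hs <;> simpa [hs] using h

/-- Expanding one slot along a generating set. -/
lemma slot_mem (H : AddSubgroup (K F n)) (x : Fin n → Fˣ) (i : Fin n) (S : Set Fˣ)
    (hS : ∀ s ∈ S, symbol (Function.update x i s) ∈ H) (a : Fˣ)
    (ha : a ∈ Subgroup.closure S) : symbol (Function.update x i a) ∈ H := by
  induction ha using Subgroup.closure_induction with
  | mem s hs => exact hS s hs
  | one => rw [symbol_one]; exact zero_mem H
  | mul a b _ _ ha hb => rw [symbol_mul]; exact add_mem ha hb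
  | inv a _ ha => rw [symbol_inv]; exact neg_mem ha

/-- Expanding all slots along generating sets. -/
lemma symbol_mem_of_generators (H : AddSubgroup (K F n)) (S : Fin n → Set Fˣ)
    (hS : ∀ x : Fin n → Fˣ, (∀ i, x i ∈ S i) → symbol x ∈ H) (x : Fin n → Fˣ)
    (hx : ∀ i, x i ∈ Subgroup.closure (S i)) : symbol x ∈ H := by
  classical
  suffices ∀ (T : Finset (Fin n)) (y : Fin n → Fˣ), (∀ i ∈ T, y i ∈ Subgroup.closure (S i)) →
      (∀ i ∉ T, y i ∈ S i) → symbol y ∈ H from
    this Finset.univ x (fun i _ => hx i) (fun i h => absurd (Finset.mem_univ i) h)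
  intro T
  induction T using Finset.induction_on with
  | empty => exact fun y _ h => hS y fun i => h i (Finset.notMem_empty i)
  | insert a T ha ih =>
    intro y h1 h2
    rw [← Function.update_eq_self a y]
    refine slot_mem H y a (S a) (fun s hs => ?_) _ (h1 a (Finset.mem_insert_self a T))
    refine ih _ (fun i hi => ?_) fun i hi => ?_
    · rw [Function.update_of_ne (fun (hia : i = a) => ha (hia ▸ hi))]
      exact h1 i (Finset.mem_insert_of_mem hi)
    · rcases eq_or_ne i a with rfl | hne
      · rwa [Function.update_self]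
      · rw [Function.update_of_ne hne]
        exact h2 i (by simp [hne, hi])

/-- An initial segment of `Fin n`. -/
lemma mem_iff_lt_card {Z : Finset (Fin n)} (hZ : ∀ i j : Fin n, i ≤ j → j ∈ Z → i ∈ Z)
    (i : Fin n) : i ∈ Z ↔ (i : ℕ) < Z.card := by
  constructor
  · intro h
    have : Finset.Iic i ⊆ Z := fun j hj => hZ j i (Finset.mem_Iic.1 hj) h
    have := Finset.card_le_card this
    rw [Fin.card_Iic] at this
    omega
  · intro h
    by_contra hi
    have : Z ⊆ Finset.Iio i := fun j hj => Finset.mem_Iio.2
      (lt_of_not_ge fun hle => hi (hZ i j hle hj))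
    have := Finset.card_le_card this
    rw [Fin.card_Iio] at this
    omega

/-- Graded generators: every symbol reduces to symbols whose nonconstant entries have strictly
increasing degrees. -/
theorem mem_of_graded (Gen : ℕ → Set Fˣ) (hneg : (-1 : Fˣ) ∈ Subgroup.closure (Gen 0))
    (hdiff : ∀ e, 0 < e → ∀ u ∈ Gen e, ∀ v ∈ Gen e, u ≠ v →
      ∃ d ∈ Subgroup.closure (⋃ e' < e, Gen e'), (d : F) = (u : F) - v)
    (H : AddSubgroup (K F n))
    (hH : ∀ (x : Fin n → Fˣ) (e : Fin n → ℕ) (m : ℕ), m ≤ n → (∀ i, x i ∈ Gen (e i)) →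
      (∀ i : Fin n, e i = 0 ↔ (i : ℕ) < n - m) →
      (∀ i j : Fin n, n - m ≤ (i : ℕ) → i < j → e i < e j) → symbol x ∈ H)
    (x : Fin n → Fˣ) (hx : ∀ i, x i ∈ Subgroup.closure (⋃ e, Gen e)) : symbol x ∈ H := by
  classical
  suffices key : ∀ (N : ℕ) (e : Fin n → ℕ) (y : Fin n → Fˣ), (∀ i, y i ∈ Gen (e i)) →
      ∑ i, e i = N → symbol y ∈ H by
    refine symbol_mem_of_generators H (fun _ => ⋃ e, Gen e) (fun y hy => ?_) x hx
    choose e he using fun i => Set.mem_iUnion.1 (hy i)
    exact key _ e y he rfl
  intro N
  induction N using Nat.strong_induction_on with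
  | _ N ih =>
    intro e y hy hN
    by_cases hrep : ∃ i j, i ≠ j ∧ 0 < e i ∧ e i = e j
    · obtain ⟨i, j, hij, he0, hee⟩ := hrep
      -- symbols with two slots in strictly smaller total degree are in `H`
      have low : ∀ a b : Fˣ,
          ((a ∈ Subgroup.closure (⋃ e' ≤ e i, Gen e') ∧
            b ∈ Subgroup.closure (⋃ e' < e i, Gen e')) ∨
          (a ∈ Subgroup.closure (⋃ e' < e i, Gen e') ∧
            b ∈ Subgroup.closure (⋃ e' ≤ e i, Gen e'))) → two y i j a b ∈ H := by
        intro a b hab
        have step : ∀ A B : Set Fˣ,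
            (∀ a' ∈ A, ∃ ea, a' ∈ Gen ea ∧ ea ≤ e i) → (∀ b' ∈ B, ∃ eb, b' ∈ Gen eb ∧ eb ≤ e i) →
            (∀ a' ∈ A, ∀ b' ∈ B, ∀ ea eb, a' ∈ Gen ea → b' ∈ Gen eb → True) →
            (∀ a' ∈ A, ∀ b' ∈ B, ∃ ea eb, a' ∈ Gen ea ∧ b' ∈ Gen eb ∧ ea + eb < e i + e j) →
            a ∈ Subgroup.closure A → b ∈ Subgroup.closure B → two y i j a b ∈ H := by
          intro A B _ _ _ hlt ha hb
          refine symbol_mem_of_generators H
            (Function.update (Function.update (fun l => ({y l} : Set Fˣ)) i A) j B)
            (fun z hz => ?_) _ (fun l => ?_)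
          · have hzi : z i ∈ A := by simpa [hij] using hz i
            have hzj : z j ∈ B := by simpa using hz j
            obtain ⟨ea, eb, hea, heb, hsum⟩ := hlt _ hzi _ hzj
            set e' := Function.update (Function.update e i ea) j eb with he'
            have hlt' : ∑ l, e' l < N := by
              have h1 := Finset.sum_update_of_mem (Finset.mem_univ j) (Function.update e i ea) eb
              have h2 := Finset.add_sum_erase Finset.univ e (Finset.mem_univ i)
              have h3 : ∑ l ∈ Finset.univ.erase j, Function.update e i ea l + e i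
                  = ∑ l ∈ Finset.univ.erase j, e l + ea := by
                have hm : i ∈ Finset.univ.erase j := by simp [hij]
                rw [Finset.sum_update_of_mem hm, ← Finset.add_sum_erase _ e hm,
                  Finset.sdiff_singleton_eq_erase]
                ring
              have h4 := Finset.add_sum_erase Finset.univ e (Finset.mem_univ j)
              rw [Finset.sdiff_singleton_eq_erase] at h1
              rw [he', h1]
              omega
            refine ih _ hlt' e' z (fun l => ?_) rfl
            rcases eq_or_ne l j with rfl | hlj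
            · simpa [he'] using heb
            rcases eq_or_ne l i with rfl | hli
            · simpa [he', hlj] using hea
            have := hz l
            simp [hlj, hli] at this
            simpa [he', hlj, hli, this] using hy l
          · rcases eq_or_ne l j with rfl | hlj
            · simpa using hb
            rcases eq_or_ne l i with rfl | hli
            · simpa [hlj] using ha
            simpa [hlj, hli] using Subgroup.subset_closure (Set.mem_singleton (y l))
        rcases hab with ⟨ha, hb⟩ | ⟨ha, hb⟩
        · refine step _ _ (fun a' h => ?_) (fun b' h => ?_) (fun _ _ _ _ _ _ _ _ => trivial)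
            (fun a' h b' h' => ?_) ha hb
          · simp only [Set.mem_iUnion] at h; obtain ⟨ea, hle, hg⟩ := h; exact ⟨ea, hg, hle⟩
          · simp only [Set.mem_iUnion] at h; obtain ⟨eb, hle, hg⟩ := h; exact ⟨eb, hg, hle.le⟩
          · simp only [Set.mem_iUnion] at h h'
            obtain ⟨ea, hle, hg⟩ := h; obtain ⟨eb, hle', hg'⟩ := h'
            exact ⟨ea, eb, hg, hg', by omega⟩
        · refine step _ _ (fun a' h => ?_) (fun b' h => ?_) (fun _ _ _ _ _ _ _ _ => trivial)
            (fun a' h b' h' => ?_) ha hb
          · simp only [Set.mem_iUnion] at h; obtain ⟨ea, hle, hg⟩ := h; exact ⟨ea, hg, hle.le⟩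
          · simp only [Set.mem_iUnion] at h; obtain ⟨eb, hle, hg⟩ := h; exact ⟨eb, hg, hle⟩
          · simp only [Set.mem_iUnion] at h h'
            obtain ⟨ea, hle, hg⟩ := h; obtain ⟨eb, hle', hg'⟩ := h'
            exact ⟨ea, eb, hg, hg', by omega⟩
      have hle_of : ∀ {a : Fˣ} {l : ℕ}, a ∈ Gen l → l ≤ e i →
          a ∈ Subgroup.closure (⋃ e' ≤ e i, Gen e') := fun {a l} h hl =>
        Subgroup.subset_closure (Set.mem_iUnion₂.2 ⟨l, hl, h⟩)
      have hsub : Subgroup.closure (⋃ e' < e i, Gen e') ≤ Subgroup.closure (⋃ e' ≤ e i, Gen e') :=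
        Subgroup.closure_mono (Set.iUnion₂_subset fun l hl => Set.subset_iUnion₂_of_subset l hl.le
          subset_rfl)
      have h0 : (-1 : Fˣ) ∈ Subgroup.closure (⋃ e' < e i, Gen e') :=
        Subgroup.closure_mono (Set.subset_iUnion₂_of_subset 0 he0 subset_rfl) hneg
      have hu := hy i
      have hv : y j ∈ Gen (e i) := hee ▸ hy j
      rw [← two_self y i j]
      by_cases huv : y i = y j
      · rw [← huv, two_self_eq y hij]
        exact low _ _ (Or.inl ⟨hle_of hu le_rfl, h0⟩)
      · obtain ⟨d, hd, hd'⟩ := hdiff (e i) he0 _ hu _ hv huv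
        have hc : -d⁻¹ ∈ Subgroup.closure (⋃ e' < e i, Gen e') := by
          rw [← neg_one_mul]; exact mul_mem h0 (inv_mem hd)
        have hst : two y i j (y i * d⁻¹) (y j * -d⁻¹) = 0 := two_steinberg y hij (by
          push_cast
          have : (d : F) ≠ 0 := d.ne_zero
          field_simp
          linear_combination -hd')
        rw [two_mul_left y hij, two_mul_right, two_mul_right] at hst
        have h2 := low (y i) (-d⁻¹) (Or.inl ⟨hle_of hu le_rfl, hc⟩)
        have h3 := low d⁻¹ (y j) (Or.inr ⟨inv_mem hd, hle_of hv le_rfl⟩)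
        have h4 := low d⁻¹ (-d⁻¹) (Or.inl ⟨hsub (inv_mem hd), hc⟩)
        have : two y i j (y i) (y j) =
            -(two y i j (y i) (-d⁻¹) + (two y i j d⁻¹ (y j) + two y i j d⁻¹ (-d⁻¹))) := by
          rw [eq_neg_iff_add_eq_zero, ← hst]; abel
        rw [this]
        exact neg_mem (add_mem h2 (add_mem h3 h4))
    · simp only [not_exists, not_and] at hrep
      set σ := Tuple.sort e
      have hmono : Monotone (e ∘ σ) := Tuple.monotone_sort e
      set Z := Finset.univ.filter fun i => (e ∘ σ) i = 0 with hZdef
      have hZ : ∀ i j : Fin n, i ≤ j → j ∈ Z → i ∈ Z := fun i j hle hj => by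
        simp only [hZdef, Finset.mem_filter, Finset.mem_univ, true_and] at hj ⊢
        exact Nat.le_zero.1 (hj ▸ hmono hle)
      have hcard : Z.card ≤ n := (Finset.card_le_univ Z).trans_eq (Fintype.card_fin n)
      have hmem := mem_iff_lt_card hZ
      have key := hH (y ∘ σ) (e ∘ σ) (n - Z.card) (Nat.sub_le n _) (fun i => hy (σ i))
        (fun i => by
          rw [show n - (n - Z.card) = Z.card by omega, ← hmem i]
          simp [hZdef])
        (fun i j hi hlt => by
          rw [show n - (n - Z.card) = Z.card by omega] at hi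
          refine lt_of_le_of_ne (hmono hlt.le) fun heq => ?_
          refine hrep (σ i) (σ j) (σ.injective.ne hlt.ne) (Nat.pos_of_ne_zero fun h0 => ?_) heq
          have : i ∈ Z := by simp [hZdef, h0]
          exact absurd ((hmem i).1 this) (by omega))
      rw [symbol_perm] at key
      rcases Int.units_eq_one_or (Equiv.Perm.sign σ) with hs | hs <;> simpa [hs] using key

/-- A product of symbols, transported along an equality of degrees. -/
lemma cast_mul_symbol {p q r : ℕ} (h : p + q = r) (a : Fin p → Fˣ) (b : Fin q → Fˣ)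
    (x : Fin r → Fˣ) (ha : ∀ i : Fin p, x (Fin.cast h (Fin.castAdd q i)) = a i)
    (hb : ∀ i : Fin q, x (Fin.cast h (Fin.natAdd p i)) = b i) :
    cast F h (mul F p q (symbol a) (symbol b)) = symbol x := by
  subst h
  rw [mul_symbol_symbol, cast_rfl, AddEquiv.refl_apply]
  congr 1
  funext i
  refine Fin.addCases (fun l => ?_) (fun l => ?_) i
  · rw [Fin.append_left]; exact (ha l).symm
  · rw [Fin.append_right]; exact (hb l).symm

end Groth.Agent.MilKLead
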