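import Groth.Agent.MilKLead.Tame
import Groth.Agent.S13281

/-! Lifting classes from the residue field, and the kernels of the residue and specialisation maps. -/

set_option autoImplicit false

universe u v

namespace Groth.Agent.MilKLead

open MilK

variable (A : Type u) [CommRing A] [IsDomain A] [IsDiscreteValuationRing A]
  (L : Type v) [Field L] [Algebra A L] [IsFractionRing A L]

local notation "κ" => IsLocalRing.ResidueField A

lemma unitResidue_surjective : Function.Surjective (unitResidue A) := by
  intro x
  obtain ⟨a, ha⟩ := IsLocalRing.residue_surjective (R := A) (x : κ)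
  have hu : IsUnit a := (IsLocalRing.residue_ne_zero_iff_isUnit a).1 (by rw [ha]; exact x.ne_zero)
  exact ⟨hu.unit, Units.ext ha⟩

/-- A chosen lift of a residue class. -/
noncomputable def liftUnit (x : κˣ) : Aˣ := Function.surjInv (unitResidue_surjective A) x

lemma unitResidue_liftUnit (x : κˣ) : unitResidue A (liftUnit A x) = x :=
  Function.surjInv_eq (unitResidue_surjective A) x

/-- The subgroup of symbols with a principal unit. -/
def prinSub (n : ℕ) : AddSubgroup (K L (n + 1)) :=
  AddSubgroup.closure {z : K L (n + 1) | ∃ (u₀ : Aˣ) (w : Fin n → Lˣ),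
    IsLocalRing.residue A (u₀ : A) = 1 ∧ z = symbol (Fin.cons (unitToFrac A L u₀) w)}

/-- The subgroup of symbols of units. -/
def unitSub (n : ℕ) : AddSubgroup (K L (n + 1)) :=
  AddSubgroup.closure {z : K L (n + 1) | ∃ u : Fin (n + 1) → Aˣ,
    z = symbol (fun i => unitToFrac A L (u i))}

lemma prinSub_le_unitSub (n : ℕ) : prinSub A L n ≤ unitSub A L n := S13281.result A L n

lemma principal_mem (n : ℕ) (x : Fin (n + 1) → Lˣ) (i : Fin (n + 1)) (u : Aˣ)
    (hu : IsLocalRing.residue A (u : A) = 1) (hx : x i = unitToFrac A L u) :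
    symbol x ∈ prinSub A L n := by
  have hm : symbol (x ∘ Equiv.swap 0 i) ∈ prinSub A L n := by
    refine AddSubgroup.subset_closure ⟨u, Fin.tail (x ∘ Equiv.swap 0 i), hu, ?_⟩
    congr 1
    rw [← hx, show x i = (x ∘ Equiv.swap 0 i) 0 by simp, Fin.cons_self_tail]
  rw [symbol_perm] at hm
  rcases Int.units_eq_one_or (Equiv.Perm.sign (Equiv.swap 0 i)) with hs | hs <;>
    rw [hs] at hm <;> simpa using hm

variable {A L}

section LiftResidue

variable {n : ℕ} {M : Type*} [AddCommGroup M] (φ : K L n →+ M)
  (hφ : ∀ (x : Fin n → Lˣ) (i : Fin n) (u : Aˣ), IsLocalRing.residue A (u : A) = 1 →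
    x i = unitToFrac A L u → φ (symbol x) = 0)

include hφ in
lemma congr_residue (x : Fin n → Lˣ) (i : Fin n) (u u' : Aˣ)
    (h : unitResidue A u = unitResidue A u') :
    φ (symbol (Function.update x i (unitToFrac A L u))) =
      φ (symbol (Function.update x i (unitToFrac A L u'))) := by
  have h1 : IsLocalRing.residue A ((u * u'⁻¹ : Aˣ) : A) = 1 := by
    have : unitResidue A (u * u'⁻¹) = 1 := by rw [map_mul, map_inv, h, mul_inv_cancel]
    simpa [unitResidue] using congrArg Units.val this
  conv_lhs => rw [show u = (u * u'⁻¹) * u' by rw [inv_mul_cancel_right], map_mul, symbol_mul, map_add,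
    hφ _ i (u * u'⁻¹) h1 (Function.update_self _ _ _), zero_add]

/-- Evaluate on lifts of residue classes. -/
noncomputable def liftRes : K κ n →+ M :=
  lift (MultilinearMap.mk' (fun y => φ (symbol fun i => unitToFrac A L (liftUnit A (y i).toMul)))
      (fun y i a b => by
        have h : ∀ c : Additive κˣ, (fun j => unitToFrac A L (liftUnit A (Function.update y i c j).toMul)) =
            Function.update (fun j => unitToFrac A L (liftUnit A (y j).toMul)) i
              (unitToFrac A L (liftUnit A c.toMul)) := fun c => by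
          funext j; rcases eq_or_ne j i with rfl | hj <;> simp [*]
        simp only [h, toMul_add]
        rw [congr_residue φ hφ _ i _ (liftUnit A a.toMul * liftUnit A b.toMul)
          (by rw [map_mul, unitResidue_liftUnit, unitResidue_liftUnit, unitResidue_liftUnit]),
          map_mul, symbol_mul, map_add])
      (fun y i r a => by
        let ψ : Additive κˣ →+ M := AddMonoidHom.mk'
          (fun t => φ (symbol fun j => unitToFrac A L (liftUnit A (Function.update y i t j).toMul)))
          (fun t t' => by
            have h : ∀ c : Additive κˣ,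
                (fun j => unitToFrac A L (liftUnit A (Function.update y i c j).toMul)) =
                  Function.update (fun j => unitToFrac A L (liftUnit A (y j).toMul)) i
                    (unitToFrac A L (liftUnit A c.toMul)) := fun c => by
              funext j; rcases eq_or_ne j i with rfl | hj <;> simp [*]
            simp only [h, toMul_add]
            rw [congr_residue φ hφ _ i _ (liftUnit A t.toMul * liftUnit A t'.toMul)
              (by rw [map_mul, unitResidue_liftUnit, unitResidue_liftUnit, unitResidue_liftUnit]),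
              map_mul, symbol_mul, map_add])
        exact map_zsmul ψ r a))
    (fun x ⟨i, j, hij, h⟩ => by
      show φ (symbol fun l => unitToFrac A L (liftUnit A (x l))) = 0
      set y := fun l => unitToFrac A L (liftUnit A (x l)) with hy
      set a := liftUnit A (x i) with ha
      have hres : IsLocalRing.residue A (1 - (a : A)) = ((x j : κˣ) : κ) := by
        have := congrArg Units.val (unitResidue_liftUnit A (x i))
        rw [map_sub, map_one, show IsLocalRing.residue A (a : A) = ((x i : κˣ) : κ) from this]
        linear_combination -h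
      have hb : IsUnit (1 - (a : A)) :=
        (IsLocalRing.residue_ne_zero_iff_isUnit _).1 (by rw [hres]; exact (x j).ne_zero)
      rw [show y = Function.update y j (unitToFrac A L (liftUnit A (x j))) from
        (Function.update_eq_self j y).symm,
        congr_residue φ hφ y j _ hb.unit (by
          rw [unitResidue_liftUnit]; exact Units.ext hres.symm),
        symbol_steinberg _ hij.ne (by
          simp [hij.ne, hy, ← ha, unitToFrac]), map_zero])

lemma liftRes_residue (u : Fin n → Aˣ) :
    liftRes φ hφ (symbol fun i => unitResidue A (u i)) = φ (symbol fun i => unitToFrac A L (u i)) := by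
  classical
  rw [liftRes, lift_symbol]
  show φ (symbol fun i => unitToFrac A L (liftUnit A (unitResidue A (u i)))) = _
  suffices ∀ T : Finset (Fin n),
      φ (symbol fun i => unitToFrac A L (if i ∈ T then liftUnit A (unitResidue A (u i)) else u i)) =
        φ (symbol fun i => unitToFrac A L (u i)) by simpa using this Finset.univ
  intro T
  induction T using Finset.induction_on with
  | empty => simp
  | insert a T ha ih =>
    rw [← ih]
    have h : ∀ w : Aˣ, Function.update
        (fun i => unitToFrac A L (if i ∈ T then liftUnit A (unitResidue A (u i)) else u i)) a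
        (unitToFrac A L w) = fun i => unitToFrac A L
          (if i = a then w else if i ∈ T then liftUnit A (unitResidue A (u i)) else u i) := fun w => by
      funext i; rcases eq_or_ne i a with rfl | hi <;> simp [*]
    have e1 := congr_residue φ hφ
      (fun i => unitToFrac A L (if i ∈ T then liftUnit A (unitResidue A (u i)) else u i)) a
      (liftUnit A (unitResidue A (u a))) (u a) (unitResidue_liftUnit A _)
    rw [h, h] at e1
    convert e1 using 4 with i i
    · rcases eq_or_ne i a with rfl | hi <;> simp [*]
    · rcases eq_or_ne i a with rfl | hi <;> simp [*]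

end LiftResidue

variable (A L)

/-- Lifts of classes, modulo symbols with a principal unit. -/
noncomputable def unitClass (n : ℕ) : K κ (n + 1) →+ K L (n + 1) ⧸ prinSub A L n :=
  liftRes (QuotientAddGroup.mk' (prinSub A L n)) fun x i u hu hx =>
    (QuotientAddGroup.eq_zero_iff _).2 (principal_mem A L n x i u hu hx)

/-- Multiplication of lifts by a uniformizer, modulo symbols with a principal unit. -/
noncomputable def coRes {ϖ : A} (hϖ : Irreducible ϖ) (n : ℕ) :
    K κ n →+ K L (n + 1) ⧸ prinSub A L n :=
  liftRes ((QuotientAddGroup.mk' (prinSub A L n)).comp (consK n (unitFrac A L ϖ hϖ.ne_zero)))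
    fun x i u hu hx => by
      rw [AddMonoidHom.comp_apply, consK_symbol]
      exact (QuotientAddGroup.eq_zero_iff _).2 (principal_mem A L n _ i.succ u hu (by simpa using hx))

lemma unitClass_residue {n : ℕ} (u : Fin (n + 1) → Aˣ) :
    unitClass A L n (symbol fun i => unitResidue A (u i)) =
      QuotientAddGroup.mk' (prinSub A L n) (symbol fun i => unitToFrac A L (u i)) :=
  liftRes_residue _ _ u

lemma coRes_residue {ϖ : A} (hϖ : Irreducible ϖ) {n : ℕ} (u : Fin n → Aˣ) :
    coRes A L hϖ n (symbol fun i => unitResidue A (u i)) = QuotientAddGroup.mk' (prinSub A L n)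
      (symbol (Fin.cons (unitFrac A L ϖ hϖ.ne_zero) fun i => unitToFrac A L (u i))) := by
  rw [coRes, liftRes_residue, AddMonoidHom.comp_apply, consK_symbol]

lemma specMap_unif_cons {ϖ : A} (hϖ : Irreducible ϖ) {n : ℕ} (u : Fin n → Aˣ) :
    specMap A L hϖ (n + 1)
      (symbol (Fin.cons (unitFrac A L ϖ hϖ.ne_zero) fun i => unitToFrac A L (u i))) = 0 := by
  rw [specMap_symbol]
  exact fS_zero _ 0 (by simp [rv_unif])

lemma specMap_units {ϖ : A} (hϖ : Irreducible ϖ) {n : ℕ} (u : Fin n → Aˣ) :
    specMap A L hϖ n (symbol fun i => unitToFrac A L (u i)) =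
      symbol fun i => unitResidue A (u i) := by
  rw [specMap_symbol]; simp [fS, rv_unit]

/-- A class is determined modulo principal symbols by its specialisation and residue. -/
theorem mk_eq {ϖ : A} (hϖ : Irreducible ϖ) (n : ℕ) (x : K L (n + 1)) :
    QuotientAddGroup.mk' (prinSub A L n) x =
      unitClass A L n (specMap A L hϖ (n + 1) x) + coRes A L hϖ n (tame A L hϖ n x) := by
  let Φ : K L (n + 1) →+ K L (n + 1) ⧸ prinSub A L n :=
    QuotientAddGroup.mk' (prinSub A L n) - ((unitClass A L n).comp (specMap A L hϖ (n + 1)) +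
      (coRes A L hϖ n).comp (tame A L hϖ n))
  have : x ∈ Φ.ker := by
    refine mem_of_unif A L hϖ _ (fun u => ?_) (fun u => ?_) x
    · simp only [Φ, AddMonoidHom.mem_ker, AddMonoidHom.sub_apply, AddMonoidHom.add_apply,
        AddMonoidHom.comp_apply, specMap_units, tame_units, unitClass_residue, map_zero, add_zero,
        sub_self]
    · simp only [Φ, AddMonoidHom.mem_ker, AddMonoidHom.sub_apply, AddMonoidHom.add_apply,
        AddMonoidHom.comp_apply, specMap_unif_cons,
        isTameSymbol_tame A L hϖ n ϖ hϖ, coRes_residue, map_zero, zero_add, sub_self]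
  exact sub_eq_zero.1 this

lemma prinSub_le_ker {ϖ : A} (hϖ : Irreducible ϖ) (n : ℕ) :
    prinSub A L n ≤ (specMap A L hϖ (n + 1)).ker := by
  rw [prinSub, AddSubgroup.closure_le]
  rintro _ ⟨u, w, hu, rfl⟩
  rw [SetLike.mem_coe, AddMonoidHom.mem_ker, specMap_symbol]
  refine fS_zero _ 0 ?_
  simp only [Fin.cons_zero, rv_unit, toMul_ofMul]
  exact Units.ext hu

lemma unitSub_le_ker {ϖ : A} (hϖ : Irreducible ϖ) (n : ℕ) :
    unitSub A L n ≤ (tame A L hϖ n).ker := by
  rw [unitSub, AddSubgroup.closure_le]
  rintro _ ⟨u, rfl⟩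
  exact tame_units A L hϖ u

theorem spec_tame_surjective {ϖ : A} (hϖ : Irreducible ϖ) (n : ℕ)
    (a : K κ (n + 1)) (b : K κ n) :
    ∃ x, specMap A L hϖ (n + 1) x = a ∧ tame A L hϖ n x = b := by
  have h1 : ∃ x, specMap A L hϖ (n + 1) x = a ∧ tame A L hϖ n x = 0 := by
    induction a using induction_symbol with
    | h0 => exact ⟨0, map_zero _, map_zero _⟩
    | hadd p q hp hq =>
      obtain ⟨x, hx, hx'⟩ := hp; obtain ⟨y, hy, hy'⟩ := hq
      exact ⟨x + y, by rw [map_add, hx, hy], by rw [map_add, hx', hy', add_zero]⟩
    | hneg p hp =>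
      obtain ⟨x, hx, hx'⟩ := hp
      exact ⟨-x, by rw [map_neg, hx], by rw [map_neg, hx', neg_zero]⟩
    | h y =>
      refine ⟨symbol fun i => unitToFrac A L (liftUnit A (y i)), ?_, tame_units A L hϖ _⟩
      rw [specMap_units]; simp only [unitResidue_liftUnit]
  have h2 : ∃ x, specMap A L hϖ (n + 1) x = 0 ∧ tame A L hϖ n x = b := by
    induction b using induction_symbol with
    | h0 => exact ⟨0, map_zero _, map_zero _⟩
    | hadd p q hp hq =>
      obtain ⟨x, hx, hx'⟩ := hp; obtain ⟨y, hy, hy'⟩ := hq
      exact ⟨x + y, by rw [map_add, hx, hy, add_zero], by rw [map_add, hx', hy']⟩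
    | hneg p hp =>
      obtain ⟨x, hx, hx'⟩ := hp
      exact ⟨-x, by rw [map_neg, hx, neg_zero], by rw [map_neg, hx']⟩
    | h y =>
      refine ⟨symbol (Fin.cons (unitFrac A L ϖ hϖ.ne_zero)
        fun i => unitToFrac A L (liftUnit A (y i))), specMap_unif_cons A L hϖ _, ?_⟩
      rw [isTameSymbol_tame A L hϖ n ϖ hϖ]; simp only [unitResidue_liftUnit]
  obtain ⟨x, hx, hx'⟩ := h1
  obtain ⟨y, hy, hy'⟩ := h2
  exact ⟨x + y, by rw [map_add, hx, hy, add_zero], by rw [map_add, hx', hy', zero_add]⟩

theorem mem_prinSub_iff {ϖ : A} (hϖ : Irreducible ϖ) (n : ℕ) (x : K L (n + 1)) :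
    x ∈ prinSub A L n ↔ specMap A L hϖ (n + 1) x = 0 ∧ tame A L hϖ n x = 0 := by
  refine ⟨fun h => ⟨prinSub_le_ker A L hϖ n h,
    unitSub_le_ker A L hϖ n (prinSub_le_unitSub A L n h)⟩, fun ⟨h1, h2⟩ => ?_⟩
  rw [← QuotientAddGroup.eq_zero_iff]
  show QuotientAddGroup.mk' (prinSub A L n) x = 0
  rw [mk_eq A L hϖ n x, h1, h2, map_zero, map_zero, add_zero]

end Groth.Agent.MilKLead
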