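import Groth.Agent.MilKLead.Basic
import Mathlib.RingTheory.Polynomial.Content
import Mathlib.FieldTheory.IntermediateField.Adjoin.Basic
import Mathlib.RingTheory.Polynomial.UniqueFactorization

/-! Generators of Milnor K-groups by values of monic irreducible polynomials. -/

set_option autoImplicit false

universe u v

namespace Groth.Agent.MilKLead

open Polynomial MilK

variable {k : Type u} [Field k] {E : Type v} [Field E]

/-- Values of monic irreducibles of degree `e`, constants in degree zero. -/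
def PGen (φ : k[X] →+* E) (dd e : ℕ) : Set Eˣ :=
  {u | (e = 0 ∧ ∃ a : kˣ, (u : E) = φ (C (a : k))) ∨
    (0 < e ∧ e ≤ dd ∧ ∃ π : k[X], π.Monic ∧ Irreducible π ∧ π.natDegree = e ∧ (u : E) = φ π)}

lemma mem_pgen_zero {φ : k[X] →+* E} {dd : ℕ} {u : Eˣ} (h : u ∈ PGen φ dd 0) :
    ∃ a : kˣ, (u : E) = φ (C (a : k)) := by
  rcases h with ⟨-, h⟩ | ⟨h, -⟩
  · exact h
  · exact absurd h (lt_irrefl 0)

lemma pgen_pos {φ : k[X] →+* E} {dd e : ℕ} {u : Eˣ} (h : u ∈ PGen φ dd e) (he : 0 < e) :
    e ≤ dd ∧ ∃ π : k[X], π.Monic ∧ Irreducible π ∧ π.natDegree = e ∧ (u : E) = φ π := by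
  rcases h with ⟨h0, -⟩ | ⟨-, h⟩
  · omega
  · exact h

/-- The value of a polynomial lies in the subgroup generated by values of irreducibles. -/
lemma value_mem (φ : k[X] →+* E) (dd l : ℕ) (hl : l ≤ dd) (q : k[X]) (hq : q.natDegree ≤ l)
    (u : Eˣ) (hu : (u : E) = φ q) : u ∈ Subgroup.closure (⋃ e ≤ l, PGen φ dd e) := by
  suffices ∀ (N : ℕ) (q : k[X]), q.natDegree = N → N ≤ l → ∀ u : Eˣ, (u : E) = φ q →
      u ∈ Subgroup.closure (⋃ e ≤ l, PGen φ dd e) from this _ q rfl hq u hu
  intro N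
  induction N using Nat.strong_induction_on with
  | _ N ih =>
    intro q hN hNl u hu
    have hq0 : q ≠ 0 := fun h => u.ne_zero (by rw [hu, h, map_zero])
    rcases Nat.eq_zero_or_pos N with rfl | hpos
    · refine Subgroup.subset_closure (Set.mem_iUnion₂.2 ⟨0, Nat.zero_le l, Or.inl ⟨rfl, ?_⟩⟩)
      have hC := eq_C_of_natDegree_eq_zero hN
      have h0 : q.coeff 0 ≠ 0 := fun h => hq0 (by rw [hC, h, map_zero])
      exact ⟨Units.mk0 _ h0, by rw [hu, Units.val_mk0, ← hC]⟩
    · obtain ⟨p, hpm, hpi, r, hr⟩ := Polynomial.exists_monic_irreducible_factor q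
        (fun h => by have := natDegree_eq_zero_of_isUnit h; omega)
      have hp0 : φ p ≠ 0 := fun h => u.ne_zero (by rw [hu, hr, map_mul, h, zero_mul])
      have hr0 : φ r ≠ 0 := fun h => u.ne_zero (by rw [hu, hr, map_mul, h, mul_zero])
      have hr' : r ≠ 0 := fun h => hr0 (by rw [h, map_zero])
      have hdeg : N = p.natDegree + r.natDegree := by
        rw [← hN, hr, natDegree_mul hpi.ne_zero hr']
      have hp1 : 0 < p.natDegree := hpi.natDegree_pos
      rw [show u = Units.mk0 _ hp0 * Units.mk0 _ hr0 from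
        Units.ext (by rw [Units.val_mul, Units.val_mk0, Units.val_mk0, hu, hr, map_mul])]
      refine mul_mem (Subgroup.subset_closure (Set.mem_iUnion₂.2 ⟨p.natDegree, by omega,
        Or.inr ⟨hp1, by omega, p, hpm, hpi, rfl, rfl⟩⟩))
        (ih _ (by omega) r rfl (by omega) _ rfl)

lemma neg_one_mem (φ : k[X] →+* E) (dd : ℕ) : (-1 : Eˣ) ∈ Subgroup.closure (PGen φ dd 0) :=
  Subgroup.subset_closure (Or.inl ⟨rfl, -1, by simp⟩)

/-- The reduction theorem for polynomial values. -/
theorem mem_of_values (φ : k[X] →+* E) (dd : ℕ) {n : ℕ} (H : AddSubgroup (K E n))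
    (hH : ∀ (x : Fin n → Eˣ) (e : Fin n → ℕ) (m : ℕ), m ≤ n → (∀ i, x i ∈ PGen φ dd (e i)) →
      (∀ i : Fin n, e i = 0 ↔ (i : ℕ) < n - m) →
      (∀ i j : Fin n, n - m ≤ (i : ℕ) → i < j → e i < e j) → symbol x ∈ H)
    (x : Fin n → Eˣ) (hx : ∀ i, ∃ q : k[X], q.natDegree ≤ dd ∧ (x i : E) = φ q) :
    symbol x ∈ H := by
  refine mem_of_graded (PGen φ dd) (neg_one_mem φ dd) (fun e he a ha b hb hab => ?_) H hH x
    (fun i => ?_)
  · obtain ⟨hle, p, hpm, -, hpd, hpa⟩ := pgen_pos ha he
    obtain ⟨-, p', hpm', -, hpd', hpb⟩ := pgen_pos hb he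
    have hne : (a : E) - b ≠ 0 := fun h => hab (Units.ext (sub_eq_zero.1 h))
    have hp0 : p - p' ≠ 0 := fun h => hne (by rw [hpa, hpb, ← map_sub, h, map_zero])
    have hlt : (p - p').natDegree < e := by
      rw [natDegree_lt_iff_degree_lt hp0, ← hpd, ← degree_eq_natDegree hpm.ne_zero]
      exact degree_sub_lt (by rw [degree_eq_natDegree hpm.ne_zero,
        degree_eq_natDegree hpm'.ne_zero, hpd, hpd']) hpm.ne_zero
        (hpm.leadingCoeff.trans hpm'.leadingCoeff.symm)
    refine ⟨Units.mk0 _ hne, ?_, rfl⟩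
    have := value_mem φ dd (e - 1) (by omega) (p - p') (by omega) (Units.mk0 _ hne)
      (by rw [Units.val_mk0, hpa, hpb, map_sub])
    exact Subgroup.closure_mono (Set.iUnion₂_subset fun l hl =>
      Set.subset_iUnion₂_of_subset l (by omega) subset_rfl) this
  · obtain ⟨q, hq, hxq⟩ := hx i
    exact Subgroup.closure_mono (Set.iUnion₂_subset fun l _ => Set.subset_iUnion _ l)
      (value_mem φ dd dd le_rfl q hq (x i) hxq)

/-- Elements of a simple extension are values of polynomials of degree below the degree. -/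
lemma exists_aeval_eq {F : Type u} [Field F] {E : Type v} [Field E] [Algebra F E]
    [FiniteDimensional F E] (a : E) (hgen : IntermediateField.adjoin F ({a} : Set E) = ⊤)
    (x : E) : ∃ q : F[X], q.natDegree ≤ Module.finrank F E - 1 ∧ x = Polynomial.aeval a q := by
  have hint : IsIntegral F a := Algebra.IsIntegral.isIntegral a
  have hd : (minpoly F a).natDegree = Module.finrank F E := by
    rw [← IntermediateField.adjoin.finrank hint, hgen, IntermediateField.finrank_top']
  have hx : x ∈ (IntermediateField.adjoin F ({a} : Set E)).toSubalgebra := by rw [hgen]; trivial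
  rw [IntermediateField.adjoin_simple_toSubalgebra_of_isAlgebraic hint.isAlgebraic,
    Algebra.adjoin_singleton_eq_range_aeval] at hx
  obtain ⟨q, hq⟩ := hx
  refine ⟨q %ₘ minpoly F a, ?_, ?_⟩
  · have := natDegree_modByMonic_lt q (minpoly.monic hint) (minpoly.ne_one F a)
    omega
  · rw [← hq]
    conv_lhs => rw [← modByMonic_add_div q (minpoly F a)]
    simp

end Groth.Agent.MilKLead
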