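import Groth.Agent.MilKLead.Basic
import Mathlib.RingTheory.Localization.FractionRing
import Mathlib.RingTheory.Valuation.Basic
import Mathlib.LinearAlgebra.Multilinear.Basic

/-! Tame symbol and specialisation map of a discrete valuation. -/

set_option autoImplicit false

universe u v w

namespace Groth.Agent.MilKLead

open MilK

section Formal

variable {κ : Type w} [Field κ]

/-- Residue class and valuation of an element. -/
abbrev RV (κ : Type w) [Field κ] := Additive κˣ × ℤ

/-- Prepend a unit to a class. -/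
noncomputable def consK (n : ℕ) (a : κˣ) : K κ n →+ K κ (n + 1) :=
  (MilK.cast κ (Nat.add_comm 1 n)).toAddMonoidHom.comp (mul κ 1 n (symbol ![a]))

lemma consK_symbol (n : ℕ) (a : κˣ) (y : Fin n → κˣ) :
    consK n a (symbol y) = symbol (Fin.cons a y) := by
  refine cast_mul_symbol (Nat.add_comm 1 n) ![a] y (Fin.cons a y) (fun i => ?_) (fun i => ?_)
  · have : i = 0 := Subsingleton.elim _ _
    subst this; rfl
  · rw [show Fin.cast (Nat.add_comm 1 n) (Fin.natAdd 1 i) = i.succ from
      Fin.ext (by simp [Nat.add_comm]), Fin.cons_succ]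

lemma symbol_cons_mul {n : ℕ} (a b : κˣ) (y : Fin n → κˣ) :
    symbol (Fin.cons (a * b) y : Fin (n + 1) → κˣ) =
      (symbol (Fin.cons a y) + symbol (Fin.cons b y) : K κ (n + 1)) := by
  have := symbol_mul (Fin.cons a y) 0 a b
  rwa [Fin.update_cons_zero, Fin.update_cons_zero, Fin.update_cons_zero] at this

lemma consK_mul (n : ℕ) (a b : κˣ) (z : K κ n) :
    consK n (a * b) z = consK n a z + consK n b z := by
  induction z using induction_symbol with
  | h0 => simp
  | hadd p q hp hq => rw [map_add, map_add, map_add, hp, hq]; abel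
  | hneg p hp => rw [map_neg, map_neg, map_neg, hp]; abel
  | h y => rw [consK_symbol, consK_symbol, consK_symbol, symbol_cons_mul]

lemma consK_one (n : ℕ) (z : K κ n) : consK n 1 z = 0 := by
  have := consK_mul n (1 : κˣ) 1 z
  rwa [one_mul, left_eq_add] at this

lemma consK_inv (n : ℕ) (a : κˣ) (z : K κ n) : consK n a⁻¹ z = -consK n a z := by
  apply eq_neg_of_add_eq_zero_left
  rw [← consK_mul, inv_mul_cancel, consK_one]

lemma consK_zpow (n : ℕ) (a : κˣ) (e : ℤ) (z : K κ n) : consK n (a ^ e) z = e • consK n a z := by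
  have h := map_zsmul (AddMonoidHom.mk' (fun b : Additive κˣ => consK n b.toMul z)
    (fun b b' => consK_mul n b.toMul b'.toMul z)) e (Additive.ofMul a)
  simpa using h

lemma consK_anticomm (n : ℕ) (a b : κˣ) (z : K κ n) :
    consK (n + 1) b (consK n a z) = -consK (n + 1) a (consK n b z) := by
  induction z using induction_symbol with
  | h0 => simp
  | hadd p q hp hq => simp only [map_add, hp, hq]; abel
  | hneg p hp => simp only [map_neg, hp]
  | h y =>
    simp only [consK_symbol]
    have h := two_anticomm (Fin.cons a (Fin.cons b y) : Fin (n + 1 + 1) → κˣ)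
      (i := 0) (j := (0 : Fin (n + 1)).succ) (Fin.succ_ne_zero _).symm a b
    simp only [two, Fin.update_cons_zero, ← Fin.cons_update] at h
    exact h

lemma consK_neg_self (n : ℕ) (a : κˣ) (z : K κ n) :
    consK (n + 1) a (consK n (-a) z) = 0 := by
  induction z using induction_symbol with
  | h0 => simp
  | hadd p q hp hq => simp only [map_add, hp, hq, add_zero]
  | hneg p hp => simp only [map_neg, hp, neg_zero]
  | h y =>
    simp only [consK_symbol]
    have h := two_neg_self (Fin.cons a (Fin.cons (-a) y) : Fin (n + 1 + 1) → κˣ)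
      (i := 0) (j := (0 : Fin (n + 1)).succ) (Fin.succ_ne_zero _).symm a
    simpa only [two, Fin.update_cons_zero, ← Fin.cons_update] using h

lemma consK_steinberg (n : ℕ) {a b : κˣ} (h : (a : κ) + b = 1) (z : K κ n) :
    consK (n + 1) a (consK n b z) = 0 := by
  induction z using induction_symbol with
  | h0 => simp
  | hadd p q hp hq => simp only [map_add, hp, hq, add_zero]
  | hneg p hp => simp only [map_neg, hp, neg_zero]
  | h y =>
    simp only [consK_symbol]
    exact symbol_steinberg _ (i := 0) (j := (0 : Fin (n + 1)).succ) (Fin.succ_ne_zero _).symm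
      (by simpa using h)

lemma consK_two_smul (n : ℕ) (z : K κ n) :
    consK n (-1) z + consK n (-1) z = 0 := by
  rw [← consK_mul, neg_mul_neg, one_mul, consK_one]

lemma consK_neg (n : ℕ) (a : κˣ) (z : K κ n) :
    consK n (-a) z = consK n (-1) z + consK n a z := by
  rw [← consK_mul, neg_one_mul]

/-- The specialisation on formal data. -/
def fS {n : ℕ} (x : Fin n → RV κ) : K κ n := symbol fun i => (x i).1.toMul

/-- The sign-twisted residue. -/
def twist (p : RV κ) : κˣ := (-1) ^ p.2 * p.1.toMul⁻¹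

lemma twist_add (p q : RV κ) : twist (p + q) = twist p * twist q := by
  simp only [twist, Prod.fst_add, Prod.snd_add, toMul_add, zpow_add, mul_inv, mul_mul_mul_comm]

/-- The residue map on formal data. -/
noncomputable def fD : (n : ℕ) → (Fin (n + 1) → RV κ) → K κ n
  | 0, x => (x 0).2 • symbol Fin.elim0
  | n + 1, x => (x 0).2 • fS (Fin.tail x) + consK n (twist (x 0)) (fD n (Fin.tail x))

lemma fS_update {n : ℕ} (x : Fin n → RV κ) (i : Fin n) (p q : RV κ) :
    fS (Function.update x i (p + q)) = fS (Function.update x i p) + fS (Function.update x i q) := by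
  have h : ∀ r : RV κ, (fun j => (Function.update x i r j).1.toMul) =
      Function.update (fun j => (x j).1.toMul) i r.1.toMul := fun r => by
    funext j; rcases eq_or_ne j i with rfl | hj <;> simp [*]
  simp only [fS, h, Prod.fst_add, toMul_add, symbol_mul]

lemma fS_zero {n : ℕ} (x : Fin n → RV κ) (i : Fin n) (h : (x i).1.toMul = 1) : fS x = 0 :=
  symbol_eq_zero_of_one _ i h

lemma tail_update_zero {n : ℕ} {α : Type*} (x : Fin (n + 1) → α) (p : α) :
    Fin.tail (Function.update x 0 p) = Fin.tail x := Fin.tail_update_zero x p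

lemma fD_update : ∀ (n : ℕ) (x : Fin (n + 1) → RV κ) (i : Fin (n + 1)) (p q : RV κ),
    fD n (Function.update x i (p + q)) =
      fD n (Function.update x i p) + fD n (Function.update x i q)
  | 0, x, i, p, q => by
    obtain rfl : i = 0 := Fin.eq_zero i
    simp [fD, add_smul]
  | n + 1, x, i, p, q => by
    induction i using Fin.cases with
    | zero =>
      simp only [fD, Function.update_self, tail_update_zero, Prod.snd_add, twist_add, consK_mul,
        add_smul]
      abel
    | succ j =>
      simp only [fD, Fin.tail_update_succ, Function.update_of_ne (Fin.succ_ne_zero j).symm,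
        fS_update, fD_update n, smul_add, map_add]
      abel

/-- Formula for the first two entries. -/
lemma fD_cons_cons (n : ℕ) (p q : RV κ) (y : Fin (n + 1) → RV κ) :
    fD (n + 2) (Fin.cons p (Fin.cons q y)) =
      (p.2 • consK n.succ q.1.toMul (fS y) + q.2 • consK n.succ (twist p) (fS y)) +
        consK (n + 1) (twist p) (consK n (twist q) (fD n y)) := by
  simp only [fD, Fin.cons_zero, Fin.tail_cons, map_add, map_zsmul]
  have : fS (Fin.cons q y) = consK (n + 1) q.1.toMul (fS y) := by
    simp only [fS, consK_symbol]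
    congr 1
    funext i
    induction i using Fin.cases <;> rfl
  rw [this]
  abel

lemma fD_one (p q : RV κ) (y : Fin 0 → RV κ) : fD 1 (Fin.cons p (Fin.cons q y)) =
    p.2 • consK 0 q.1.toMul (symbol Fin.elim0) + q.2 • consK 0 (twist p) (symbol Fin.elim0) := by
  simp only [fD, Fin.cons_zero, Fin.tail_cons, map_zsmul, consK_symbol]
  congr 2
  simp only [fS]
  congr 1
  funext i
  obtain rfl : i = 0 := Fin.eq_zero i
  rfl

lemma bracket_anticomm (n : ℕ) (p q : RV κ) (z : K κ n) :
    (q.2 • consK n p.1.toMul z + p.2 • consK n (twist q) z) =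
      -(p.2 • consK n q.1.toMul z + q.2 • consK n (twist p) z) := by
  apply eq_neg_of_add_eq_zero_left
  simp only [twist, consK_mul, consK_inv, consK_zpow, smul_add, smul_neg, smul_smul]
  have h2 := consK_two_smul n z
  rw [mul_comm q.2 p.2]
  have : (p.2 * q.2) • consK n (-1) z + (p.2 * q.2) • consK n (-1) z = 0 := by
    rw [← smul_add, h2, smul_zero]
  calc _ = (p.2 * q.2) • consK n (-1) z + (p.2 * q.2) • consK n (-1) z := by abel
    _ = 0 := this

lemma comp_swap_zero_one {n : ℕ} {α : Type*} (x : Fin (n + 2) → α) :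
    x ∘ Equiv.swap 0 1 = Fin.cons (x 1) (Fin.cons (x 0) (Fin.tail (Fin.tail x))) := by
  funext i
  induction i using Fin.cases with
  | zero => simp
  | succ i =>
    induction i using Fin.cases with
    | zero => simp
    | succ i =>
      simp only [Function.comp_apply, Fin.cons_succ, Fin.tail]
      rw [Equiv.swap_apply_of_ne_of_ne (Fin.succ_ne_zero _)]
      exact fun h => Fin.succ_ne_zero i (Fin.succ_injective _ h)

lemma eq_cons_cons {n : ℕ} {α : Type*} (x : Fin (n + 2) → α) :
    x = Fin.cons (x 0) (Fin.cons (x 1) (Fin.tail (Fin.tail x))) := by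
  funext i
  induction i using Fin.cases with
  | zero => simp
  | succ i => induction i using Fin.cases <;> simp [Fin.tail]

lemma fD_swap01 : ∀ (n : ℕ) (x : Fin (n + 2) → RV κ),
    fD (n + 1) (x ∘ Equiv.swap 0 1) = -fD (n + 1) x
  | 0, x => by
    conv_rhs => rw [eq_cons_cons x]
    rw [comp_swap_zero_one, fD_one, fD_one, bracket_anticomm]
  | n + 1, x => by
    conv_rhs => rw [eq_cons_cons x]
    rw [comp_swap_zero_one, fD_cons_cons, fD_cons_cons, bracket_anticomm, consK_anticomm]
    simp only [Nat.succ_eq_add_one]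
    abel

lemma fS_swap {n : ℕ} (x : Fin n → RV κ) {i j : Fin n} (h : i ≠ j) :
    fS (x ∘ Equiv.swap i j) = -fS x := by
  have := symbol_perm (fun l => (x l).1.toMul) (Equiv.swap i j)
  rw [Equiv.Perm.sign_swap h] at this
  simpa [fS, Function.comp_def] using this

lemma fD_swap : ∀ (n : ℕ) (x : Fin (n + 1) → RV κ) (i j : Fin (n + 1)), i ≠ j →
    fD n (x ∘ Equiv.swap i j) = -fD n x
  | 0, _, i, j, h => absurd ((Fin.eq_zero i).trans (Fin.eq_zero j).symm) h
  | n + 1, x, i, j, h => by
    have hss : ∀ (a b : Fin (n + 1)), a ≠ b → ∀ y : Fin (n + 2) → RV κ,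
        fD (n + 1) (y ∘ Equiv.swap a.succ b.succ) = -fD (n + 1) y := by
      intro a b hab y
      have ht : Fin.tail (y ∘ Equiv.swap a.succ b.succ) = Fin.tail y ∘ Equiv.swap a b := by
        funext l
        simp only [Fin.tail, Function.comp_apply]
        rw [(Fin.succ_injective _).swap_apply]
      have h0 : (y ∘ Equiv.swap a.succ b.succ) 0 = y 0 := by
        rw [Function.comp_apply, Equiv.swap_apply_of_ne_of_ne (Fin.succ_ne_zero _).symm
          (Fin.succ_ne_zero _).symm]
      simp only [fD, ht, h0, fS_swap _ hab, fD_swap n _ _ _ hab, smul_neg, map_neg]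
      abel
    have h0s : ∀ (b : Fin (n + 1)) (y : Fin (n + 2) → RV κ),
        fD (n + 1) (y ∘ Equiv.swap 0 b.succ) = -fD (n + 1) y := by
      intro b y
      rcases eq_or_ne b 0 with rfl | hb
      · rw [Fin.succ_zero_eq_one]; exact fD_swap01 n y
      have hconj : (Equiv.swap 0 b.succ : Equiv.Perm (Fin (n + 2))) =
          Equiv.swap (0 : Fin (n + 1)).succ b.succ * Equiv.swap 0 1
            * Equiv.swap (0 : Fin (n + 1)).succ b.succ := by
        rw [Fin.succ_zero_eq_one, Equiv.swap_mul_swap_mul_swap]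
        · rw [Equiv.swap_comm]
        · exact fun h => Fin.succ_ne_zero _ (by rw [← Fin.succ_zero_eq_one] at h; exact h.symm)
        · exact (Fin.succ_ne_zero b).symm
      rw [hconj, Equiv.Perm.coe_mul, Equiv.Perm.coe_mul, ← Function.comp_assoc,
        ← Function.comp_assoc, hss _ _ (Ne.symm hb), fD_swap01, hss _ _ (Ne.symm hb), neg_neg]
    rcases Fin.eq_zero_or_eq_succ i with rfl | ⟨a, rfl⟩
    · obtain ⟨b, rfl⟩ := Fin.exists_succ_eq.2 h.symm
      exact h0s b x
    · rcases Fin.eq_zero_or_eq_succ j with rfl | ⟨b, rfl⟩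
      · rw [Equiv.swap_comm]; exact h0s a x
      · exact hss a b (fun e => h (e ▸ rfl)) x

/-- Formal Steinberg pairs. -/
def IsFSt (p q : RV κ) : Prop :=
  p = 0 ∨ q = 0 ∨ (p.2 = 0 ∧ q.2 = 0 ∧ (p.1.toMul : κ) + q.1.toMul = 1) ∨
    (p.2 = q.2 ∧ q.1.toMul = -p.1.toMul) ∨ q.1.toMul = 1 ∧ q.2 = 0 ∨ p.1.toMul = 1 ∧ p.2 = 0

lemma fD_zero (n : ℕ) (x : Fin (n + 1) → RV κ) (i : Fin (n + 1)) (h : x i = 0) : fD n x = 0 := by
  have := fD_update n x i 0 0
  rwa [zero_add, ← h, Function.update_eq_self, left_eq_add] at this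

lemma bracket_fst (n : ℕ) {p q : RV κ} (z : K κ n)
    (h : (p.2 = 0 ∧ q.2 = 0) ∨ (p.2 = q.2 ∧ q.1.toMul = -p.1.toMul)) :
    p.2 • consK n q.1.toMul z + q.2 • consK n (twist p) z = 0 := by
  rcases h with ⟨h1, h2⟩ | ⟨h1, h2⟩
  · simp [h1, h2]
  · rw [h2, consK_neg, ← h1]
    simp only [twist, consK_mul, consK_inv, consK_zpow, smul_add, smul_neg, smul_smul]
    obtain ⟨r, hr⟩ := Int.even_mul_succ_self p.2
    calc _ = p.2 • consK n (-1) z + (p.2 * p.2) • consK n (-1) z := by abel
      _ = (r + r) • consK n (-1) z := by rw [← add_smul, ← hr]; congr 1; ring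
      _ = 0 := by rw [add_smul, ← smul_add, consK_two_smul, smul_zero]

lemma fD_steinberg01 : ∀ (n : ℕ) (x : Fin (n + 2) → RV κ), IsFSt (x 0) (x 1) →
    fD (n + 1) x = 0 := by
  intro n x h
  rcases h with h | h | h | h | h | h
  · exact fD_zero _ x 0 h
  · exact fD_zero _ x 1 h
  · rw [eq_cons_cons x]
    cases n with
    | zero => rw [fD_one, bracket_fst _ _ (Or.inl ⟨h.1, h.2.1⟩)]
    | succ n =>
      rw [fD_cons_cons, bracket_fst _ _ (Or.inl ⟨h.1, h.2.1⟩), zero_add]
      simp only [twist, h.1, h.2.1, zpow_zero, one_mul, consK_inv, map_neg, neg_neg]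
      exact consK_steinberg n h.2.2 _
  · rw [eq_cons_cons x]
    cases n with
    | zero => rw [fD_one, bracket_fst _ _ (Or.inr h)]
    | succ n =>
      rw [fD_cons_cons, bracket_fst _ _ (Or.inr h), zero_add,
        show twist (x 1) = -twist (x 0) by
          simp only [twist, h.2, ← h.1, inv_neg, mul_neg]]
      exact consK_neg_self n _ _
  · exact fD_zero _ x 1 (Prod.ext (by simpa using congrArg Additive.ofMul h.1) h.2)
  · exact fD_zero _ x 0 (Prod.ext (by simpa using congrArg Additive.ofMul h.1) h.2)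

lemma fD_steinberg (n : ℕ) (x : Fin (n + 1) → RV κ) (i j : Fin (n + 1)) (hij : i ≠ j)
    (h : IsFSt (x i) (x j)) : fD n x = 0 := by
  cases n with
  | zero => exact absurd ((Fin.eq_zero i).trans (Fin.eq_zero j).symm) hij
  | succ n =>
    -- bring `i` to `0`
    obtain ⟨y, hy, hy0⟩ : ∃ y : Fin (n + 2) → RV κ, (fD (n + 1) y = 0 → fD (n + 1) x = 0) ∧
        ∃ j', j' ≠ 0 ∧ IsFSt (y 0) (y j') := by
      rcases eq_or_ne i 0 with rfl | hi
      · exact ⟨x, id, j, hij.symm, h⟩
      · refine ⟨x ∘ Equiv.swap 0 i, fun e => ?_, Equiv.swap 0 i j, fun e => hij ?_, ?_⟩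
        · rwa [fD_swap _ _ _ _ hi.symm, neg_eq_zero] at e
        · have := congrArg (Equiv.swap 0 i) e
          rwa [Equiv.swap_apply_self, Equiv.swap_apply_left, eq_comm] at this
        · simpa using h
    obtain ⟨j', hj', hh⟩ := hy0
    apply hy
    rcases eq_or_ne j' 1 with rfl | h1
    · exact fD_steinberg01 n y hh
    · have := fD_steinberg01 n (y ∘ Equiv.swap 1 j') (by
        simpa [Equiv.swap_apply_of_ne_of_ne (a := 1) (b := j') (x := (0 : Fin (n + 2))) (by simp)
          hj'.symm] using hh)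
      rwa [fD_swap _ _ _ _ h1.symm, neg_eq_zero] at this

end Formal

section DVR

variable (A : Type u) [CommRing A] [IsDomain A] [IsDiscreteValuationRing A]
  (L : Type v) [Field L] [Algebra A L] [IsFractionRing A L]

local notation "κ" => IsLocalRing.ResidueField A

lemma unitFrac_ne (a : A) (ha : a ≠ 0) : algebraMap A L a ≠ 0 :=
  mt (IsFractionRing.to_map_eq_zero_iff (K := L)).1 ha

/-- Every nonzero element is a unit times a power of the uniformizer. -/
lemma exists_zpow {ϖ : A} (hϖ : Irreducible ϖ) (z : Lˣ) :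
    ∃ (e : ℤ) (u : Aˣ), z = unitFrac A L ϖ hϖ.ne_zero ^ e * unitToFrac A L u := by
  have key : ∀ (a : A) (ha : a ≠ 0), ∃ (e : ℤ) (u : Aˣ),
      unitFrac A L a ha = unitFrac A L ϖ hϖ.ne_zero ^ e * unitToFrac A L u := by
    intro a ha
    obtain ⟨n, u, rfl⟩ := IsDiscreteValuationRing.eq_unit_mul_pow_irreducible ha hϖ
    exact ⟨n, u, Units.ext (by simp [unitToFrac, mul_comm])⟩
  obtain ⟨a, b, hb, h⟩ := IsFractionRing.div_surjective (A := A) (z : L)
  have hb0 : b ≠ 0 := nonZeroDivisors.ne_zero hb
  have ha0 : a ≠ 0 := fun h0 => z.ne_zero (by rw [← h, h0, map_zero, zero_div])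
  obtain ⟨e, u, he⟩ := key a ha0
  obtain ⟨e', u', he'⟩ := key b hb0
  refine ⟨e - e', u * u'⁻¹, ?_⟩
  rw [show z = unitFrac A L a ha0 / unitFrac A L b hb0 from
    Units.ext (by rw [Units.val_div_eq_div_val]; exact h.symm), he, he', zpow_sub, map_mul, map_inv,
    div_eq_mul_inv, mul_inv]
  ac_rfl

lemma zpow_unique {ϖ : A} (hϖ : Irreducible ϖ) {e e' : ℤ} {u u' : Aˣ}
    (h : unitFrac A L ϖ hϖ.ne_zero ^ e * unitToFrac A L u =
      unitFrac A L ϖ hϖ.ne_zero ^ e' * unitToFrac A L u') : e = e' ∧ u = u' := by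
  have inj : Function.Injective (unitToFrac A L) :=
    Units.map_injective (IsFractionRing.injective A L)
  wlog hle : e ≤ e' generalizing e e' u u'
  · obtain ⟨h1, h2⟩ := this h.symm (le_of_not_ge hle)
    exact ⟨h1.symm, h2.symm⟩
  obtain ⟨d, rfl⟩ := Int.le.dest hle
  rw [zpow_add, mul_assoc, mul_right_inj, zpow_natCast] at h
  have hA : (u : A) = ϖ ^ d * u' := IsFractionRing.injective A L (by
    have := congrArg Units.val h
    simpa [unitToFrac] using this)
  cases d with
  | zero => exact ⟨by simp, Units.ext (by simpa using hA)⟩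
  | succ d =>
    refine absurd ?_ hϖ.not_isUnit
    exact isUnit_of_dvd_unit ⟨ϖ ^ d * u', by rw [hA]; ring⟩ u.isUnit

/-- Residue and valuation. -/
noncomputable def rv {ϖ : A} (hϖ : Irreducible ϖ) (z : Lˣ) : RV κ :=
  (Additive.ofMul (unitResidue A (exists_zpow A L hϖ z).choose_spec.choose),
    (exists_zpow A L hϖ z).choose)

lemma rv_eq {ϖ : A} (hϖ : Irreducible ϖ) (e : ℤ) (u : Aˣ) :
    rv A L hϖ (unitFrac A L ϖ hϖ.ne_zero ^ e * unitToFrac A L u) =
      (Additive.ofMul (unitResidue A u), e) := by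
  obtain ⟨h1, h2⟩ := zpow_unique A L hϖ
    (exists_zpow A L hϖ (unitFrac A L ϖ hϖ.ne_zero ^ e * unitToFrac A L u)).choose_spec.choose_spec
  rw [rv, ← h2, ← h1]

lemma rv_unit {ϖ : A} (hϖ : Irreducible ϖ) (u : Aˣ) :
    rv A L hϖ (unitToFrac A L u) = (Additive.ofMul (unitResidue A u), 0) := by
  simpa using rv_eq A L hϖ 0 u

lemma rv_unif {ϖ : A} (hϖ : Irreducible ϖ) :
    rv A L hϖ (unitFrac A L ϖ hϖ.ne_zero) = (0, 1) := by
  simpa using rv_eq A L hϖ 1 1

lemma rv_mul {ϖ : A} (hϖ : Irreducible ϖ) (z z' : Lˣ) :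
    rv A L hϖ (z * z') = rv A L hϖ z + rv A L hϖ z' := by
  obtain ⟨e, u, rfl⟩ := exists_zpow A L hϖ z
  obtain ⟨e', u', rfl⟩ := exists_zpow A L hϖ z'
  rw [rv_eq, rv_eq, mul_mul_mul_comm, ← zpow_add, ← map_mul, rv_eq]
  simp [Prod.ext_iff]

lemma unitResidue_val (u : Aˣ) : ((unitResidue A u : κˣ) : κ) = IsLocalRing.residue A (u : A) := rfl

lemma residue_unif {ϖ : A} (hϖ : Irreducible ϖ) : IsLocalRing.residue A ϖ = 0 :=
  (IsLocalRing.residue_eq_zero_iff ϖ).2 hϖ.not_isUnit

/-- The images of a Steinberg pair. -/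
lemma isFSt_rv {ϖ : A} (hϖ : Irreducible ϖ) {a b : Lˣ} (h : (a : L) + b = 1) :
    IsFSt (rv A L hϖ a) (rv A L hϖ b) := by
  obtain ⟨e, u, rfl⟩ := exists_zpow A L hϖ a
  obtain ⟨e', u', rfl⟩ := exists_zpow A L hϖ b
  rw [rv_eq, rv_eq]
  have hr := residue_unif A hϖ
  have hϖ' := unitFrac_ne A L ϖ hϖ.ne_zero
  have inj := IsFractionRing.injective A L
  -- clear denominators
  obtain ⟨c, p, q, hp, hq, hh⟩ : ∃ (c p q : ℕ), (e : ℤ) + c = p ∧ (e' : ℤ) + c = q ∧
      (ϖ : A) ^ p * u + ϖ ^ q * u' = ϖ ^ c ∧ (c = 0 ∨ p = 0 ∨ q = 0) := by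
    set c : ℕ := (max 0 (max (-e) (-e'))).toNat with hc
    obtain ⟨p, hp⟩ := Int.eq_ofNat_of_zero_le (show 0 ≤ e + c by omega)
    obtain ⟨q, hq⟩ := Int.eq_ofNat_of_zero_le (show 0 ≤ e' + c by omega)
    refine ⟨c, p, q, hp, hq, inj ?_, by omega⟩
    have hpow : ∀ (d : ℤ) (r : ℕ), d + (c : ℤ) = r →
        algebraMap A L ϖ ^ r = algebraMap A L ϖ ^ c * algebraMap A L ϖ ^ d := fun d r hr => by
      rw [← zpow_natCast, ← zpow_natCast, ← zpow_add₀ hϖ', add_comm, hr]
    simp only [Units.val_mul, Units.val_zpow_eq_zpow_val, coe_unitFrac, unitToFrac, Units.coe_map,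
      MonoidHom.coe_coe] at h
    simp only [map_add, map_mul, map_pow, hpow e p hp, hpow e' q hq]
    linear_combination algebraMap A L ϖ ^ c * h
  obtain ⟨hA, hmin⟩ := hh
  have hres := congrArg (IsLocalRing.residue A) hA
  rw [map_add, map_mul, map_mul, map_pow, map_pow, map_pow, hr] at hres
  rcases Nat.eq_zero_or_pos c with hc | hc
  · rw [hc, pow_zero] at hres
    rcases Nat.eq_zero_or_pos p with hp0 | hp0 <;> rcases Nat.eq_zero_or_pos q with hq0 | hq0
    · refine Or.inr (Or.inr (Or.inl ⟨by show e = 0; omega, by show e' = 0; omega, ?_⟩))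
      simpa [hp0, hq0, unitResidue_val] using hres
    · refine Or.inr (Or.inr (Or.inr (Or.inr (Or.inr ⟨?_, by show e = 0; omega⟩))))
      refine Units.ext ?_
      simpa [hp0, zero_pow hq0.ne', unitResidue_val] using hres
    · refine Or.inr (Or.inr (Or.inr (Or.inr (Or.inl ⟨?_, by show e' = 0; omega⟩))))
      refine Units.ext ?_
      simpa [hq0, zero_pow hp0.ne', unitResidue_val] using hres
    · simp [zero_pow hp0.ne', zero_pow hq0.ne'] at hres
  · rw [zero_pow hc.ne'] at hres
    rcases Nat.eq_zero_or_pos p with hp0 | hp0 <;> rcases Nat.eq_zero_or_pos q with hq0 | hq0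
    · refine Or.inr (Or.inr (Or.inr (Or.inl ⟨by show e = e'; omega, ?_⟩)))
      refine Units.ext ?_
      simp [hp0, hq0] at hres
      show IsLocalRing.residue A (u' : A) = -IsLocalRing.residue A (u : A)
      linear_combination hres
    · simp [hp0, zero_pow hq0.ne'] at hres
    · simp [hq0, zero_pow hp0.ne'] at hres
    · omega

/-- Uniformizer and unit symbols generate. -/
theorem mem_of_unif {ϖ : A} (hϖ : Irreducible ϖ) {n : ℕ} (H : AddSubgroup (K L (n + 1)))
    (h0 : ∀ u : Fin (n + 1) → Aˣ, symbol (fun i => unitToFrac A L (u i)) ∈ H)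
    (h1 : ∀ u : Fin n → Aˣ,
      symbol (Fin.cons (unitFrac A L ϖ hϖ.ne_zero) fun i => unitToFrac A L (u i)) ∈ H)
    (x : K L (n + 1)) : x ∈ H := by
  classical
  induction x using induction_symbol with
  | h0 => exact zero_mem H
  | hadd p q hp hq => exact add_mem hp hq
  | hneg p hp => exact neg_mem hp
  | h x =>
    set P := unitFrac A L ϖ hϖ.ne_zero with hP
    let G : ℕ → Set Lˣ := fun e =>
      if e = 0 then Set.range (unitToFrac A L) else if e = 1 then {P} else ∅
    have hG0 : G 0 = Set.range (unitToFrac A L) := if_pos rfl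
    refine mem_of_graded G (Subgroup.subset_closure (hG0 ▸ ⟨-1, Units.ext (by simp [unitToFrac])⟩))
      (fun e he a ha b hb hab => ?_) H (fun y e m hm hy hz hlt => ?_) x (fun i => ?_)
    · exfalso
      simp only [G, he.ne', if_false] at ha hb
      split_ifs at ha hb with h
      · exact hab (ha.trans hb.symm)
      · exact ha
    · have hle : ∀ i, e i ≤ 1 := fun i => by
        by_contra hi
        have := hy i
        simp [G, show e i ≠ 0 by omega, show e i ≠ 1 by omega] at this
      have hzero : ∀ i : Fin n, e (Fin.castSucc i) = 0 := by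
        intro i
        by_contra hi
        have hge : n + 1 - m ≤ (Fin.castSucc i : ℕ) :=
          not_lt.1 fun hlt' => hi ((hz _).2 hlt')
        have := hlt _ (Fin.last n) hge (Fin.castSucc_lt_last i)
        have := hle (Fin.last n)
        omega
      have hu : ∀ i : Fin n, ∃ u : Aˣ, y (Fin.castSucc i) = unitToFrac A L u := fun i => by
        have := hy (Fin.castSucc i)
        rw [hzero, hG0] at this
        obtain ⟨u, hu⟩ := this
        exact ⟨u, hu.symm⟩
      choose u hu using hu
      rcases Nat.eq_zero_or_pos (e (Fin.last n)) with hl | hl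
      · have := hy (Fin.last n)
        rw [hl, hG0] at this
        obtain ⟨w, hw⟩ := this
        have hyy : y = fun i => unitToFrac A L (Fin.snoc (α := fun _ => Aˣ) u w i) := by
          funext i
          induction i using Fin.lastCases with
          | last => rw [Fin.snoc_last]; exact hw.symm
          | cast i => rw [Fin.snoc_castSucc]; exact hu i
        rw [hyy]; exact h0 _
      · have := hy (Fin.last n)
        rw [show e (Fin.last n) = 1 by have := hle (Fin.last n); omega] at this
        have hlast : y (Fin.last n) = P := by simpa [G] using this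
        have hperm : (Fin.cons P fun i => unitToFrac A L (u i) : Fin (n + 1) → Lˣ) =
            y ∘ (finRotate (n + 1)).symm := by
          funext i
          obtain ⟨j, rfl⟩ := (finRotate (n + 1)).surjective i
          rw [Function.comp_apply, Equiv.symm_apply_apply]
          induction j using Fin.lastCases with
          | last => rw [finRotate_last, Fin.cons_zero, hlast]
          | cast j =>
            rw [show finRotate (n + 1) (Fin.castSucc j) = j.succ from
              Fin.ext (by simp [Fin.val_add]), Fin.cons_succ, hu]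
        have := h1 u
        rw [hperm, symbol_perm] at this
        rcases Int.units_eq_one_or (Equiv.Perm.sign (finRotate (n + 1)).symm) with hs | hs <;>
          rw [hs] at this <;> simpa using this
    · obtain ⟨e, w, he⟩ := exists_zpow A L hϖ (x i)
      rw [he]
      exact mul_mem (zpow_mem (Subgroup.subset_closure (Set.mem_iUnion.2 ⟨1, by simp [G, hP]⟩)) e)
        (Subgroup.subset_closure (Set.mem_iUnion.2 ⟨0, hG0 ▸ ⟨w, rfl⟩⟩))

lemma update_rv {ϖ : A} (hϖ : Irreducible ϖ) {n : ℕ} (y : Fin n → Additive Lˣ) (i : Fin n)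
    (a : Additive Lˣ) : (fun j => rv A L hϖ (Function.update y i a j).toMul) =
      Function.update (fun j => rv A L hϖ (y j).toMul) i (rv A L hϖ a.toMul) := by
  funext j; rcases eq_or_ne j i with rfl | hj <;> simp [*]

/-- The constructed specialisation map. -/
noncomputable def specMap {ϖ : A} (hϖ : Irreducible ϖ) (n : ℕ) : K L n →+ K κ n :=
  lift (MultilinearMap.mk' (fun y => fS fun i => rv A L hϖ (y i).toMul)
      (fun y i a b => by
        simp only [update_rv, toMul_add, rv_mul, fS_update])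
      (fun y i r a => by
        let φ : Additive Lˣ →+ K κ n := AddMonoidHom.mk'
          (fun t => fS fun j => rv A L hϖ (Function.update y i t j).toMul)
          (fun t t' => by simp only [update_rv, toMul_add, rv_mul, fS_update])
        exact map_zsmul φ r a))
    (fun x ⟨i, j, hij, h⟩ => by
      show symbol _ = 0
      have hst := isFSt_rv A L hϖ h
      simp only [IsFSt] at hst
      rcases hst with h' | h' | h' | h' | h' | h'
      · exact symbol_eq_zero_of_one _ i (by simp [h'])
      · exact symbol_eq_zero_of_one _ j (by simp [h'])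
      · exact symbol_steinberg _ hij.ne (by simpa using h'.2.2)
      · rw [← two_self _ i j]
        simp only [toMul_ofMul, h'.2]
        exact two_neg_self _ hij.ne _
      · exact symbol_eq_zero_of_one _ j (by simpa using h'.1)
      · exact symbol_eq_zero_of_one _ i (by simpa using h'.1))

lemma specMap_symbol {ϖ : A} (hϖ : Irreducible ϖ) {n : ℕ} (x : Fin n → Lˣ) :
    specMap A L hϖ n (symbol x) = fS fun i => rv A L hϖ (x i) := by
  rw [specMap, lift_symbol]; rfl

/-- The constructed tame symbol. -/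
noncomputable def tame {ϖ : A} (hϖ : Irreducible ϖ) (n : ℕ) : K L (n + 1) →+ K κ n :=
  lift (MultilinearMap.mk' (fun y => fD n fun i => rv A L hϖ (y i).toMul)
      (fun y i a b => by
        simp only [update_rv, toMul_add, rv_mul, fD_update])
      (fun y i r a => by
        let φ : Additive Lˣ →+ K κ n := AddMonoidHom.mk'
          (fun t => fD n fun j => rv A L hϖ (Function.update y i t j).toMul)
          (fun t t' => by simp only [update_rv, toMul_add, rv_mul, fD_update])
        exact map_zsmul φ r a))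
    (fun x ⟨i, j, hij, h⟩ => fD_steinberg n _ i j hij.ne (by simpa using isFSt_rv A L hϖ h))

lemma tame_symbol {ϖ : A} (hϖ : Irreducible ϖ) {n : ℕ} (x : Fin (n + 1) → Lˣ) :
    tame A L hϖ n (symbol x) = fD n fun i => rv A L hϖ (x i) := by
  rw [tame, lift_symbol]; rfl

lemma fD_units : ∀ (n : ℕ) (x : Fin (n + 1) → RV κ), (∀ i, (x i).2 = 0) → fD n x = 0
  | 0, x, h => by simp [fD, h 0]
  | n + 1, x, h => by simp [fD, h 0, fD_units n (Fin.tail x) fun i => h i.succ]

lemma tame_units {ϖ : A} (hϖ : Irreducible ϖ) {n : ℕ} (u : Fin (n + 1) → Aˣ) :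
    tame A L hϖ n (symbol fun i => unitToFrac A L (u i)) = 0 := by
  rw [tame_symbol]; exact fD_units A n _ fun i => by rw [rv_unit]

lemma tame_unif_cons {ϖ : A} (hϖ : Irreducible ϖ) {n : ℕ} (a : Aˣ) (u : Fin n → Aˣ) :
    tame A L hϖ n (symbol (Fin.cons (unitFrac A L ϖ hϖ.ne_zero * unitToFrac A L a)
      fun i => unitToFrac A L (u i))) = symbol fun i => unitResidue A (u i) := by
  rw [tame_symbol]
  have h0 : rv A L hϖ (unitFrac A L ϖ hϖ.ne_zero * unitToFrac A L a) =
      (Additive.ofMul (unitResidue A a), 1) := by simpa using rv_eq A L hϖ 1 a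
  cases n with
  | zero =>
    simp only [fD, Fin.cons_zero, h0, one_smul]
    congr 1
    funext i; exact i.elim0
  | succ n =>
    simp only [fD, Fin.cons_zero, h0, one_smul]
    rw [fD_units A n _ (fun i => by simp [Fin.tail, rv_unit]), map_zero, add_zero]
    simp [fS, Fin.tail, rv_unit]

lemma isTameSymbol_tame {ϖ : A} (hϖ : Irreducible ϖ) (n : ℕ) :
    IsTameSymbol A L n (tame A L hϖ n) := by
  intro π hπ u
  obtain ⟨a, ha⟩ := IsDiscreteValuationRing.associated_of_irreducible A hϖ hπ
  rw [show unitFrac A L π hπ.ne_zero = unitFrac A L ϖ hϖ.ne_zero * unitToFrac A L a from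
    Units.ext (by simp [unitToFrac, ← ha])]
  exact tame_unif_cons A L hϖ a u

variable {A L}

lemma IsTameSymbol.units {n : ℕ} {d : K L (n + 1) →+ K κ n} (hd : IsTameSymbol A L n d)
    (u : Fin (n + 1) → Aˣ) : d (symbol fun i => unitToFrac A L (u i)) = 0 := by
  obtain ⟨ϖ, hϖ⟩ := IsDiscreteValuationRing.exists_irreducible A
  have hπ : Irreducible (ϖ * u 0) := (irreducible_mul_units (u 0)).2 hϖ
  have h1 := hd (ϖ * u 0) hπ (fun i => u i.succ)
  rw [show unitFrac A L (ϖ * u 0) hπ.ne_zero = unitFrac A L ϖ hϖ.ne_zero * unitToFrac A L (u 0) from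
    Units.ext (by simp [unitToFrac]), symbol_cons_mul, map_add, hd ϖ hϖ, add_eq_left] at h1
  rw [← h1]
  congr 2
  funext i
  induction i using Fin.cases <;> rfl

/-- A tame symbol is unique. -/
theorem IsTameSymbol.eq_tame {n : ℕ} {d : K L (n + 1) →+ K κ n} (hd : IsTameSymbol A L n d)
    {ϖ : A} (hϖ : Irreducible ϖ) : d = tame A L hϖ n := by
  refine AddMonoidHom.ext fun x => ?_
  have : x ∈ (d - tame A L hϖ n).ker := by
    refine mem_of_unif A L hϖ _ (fun u => ?_) (fun u => ?_) x
    · rw [AddMonoidHom.mem_ker, AddMonoidHom.sub_apply, IsTameSymbol.units hd, tame_units, sub_zero]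
    · rw [AddMonoidHom.mem_ker, AddMonoidHom.sub_apply, hd ϖ hϖ, isTameSymbol_tame A L hϖ n ϖ hϖ,
        sub_self]
  exact sub_eq_zero.1 this

lemma isSpecMap_specMap {ϖ : A} (hϖ : Irreducible ϖ) (n : ℕ) :
    IsSpecMap A L ϖ hϖ n (specMap A L hϖ n) := by
  intro e u
  rw [specMap_symbol]
  simp [fS, rv_eq]

/-- A specialisation map is unique. -/
theorem IsSpecMap.eq_specMap {ϖ : A} {hϖ : Irreducible ϖ} {n : ℕ} {s : K L n →+ K κ n}
    (hs : IsSpecMap A L ϖ hϖ n s) : s = specMap A L hϖ n := by
  refine hom_ext fun x => ?_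
  choose e u he using fun i => exists_zpow A L hϖ (x i)
  rw [funext he, hs e u, isSpecMap_specMap hϖ n e u]

end DVR

end Groth.Agent.MilKLead
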